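import Cfsg.Agent.EqLemmas

/-!
Sections of groups (`Cfsg.Involves`) and dihedral sections.

Main results: `involves_of_hom`, `exists_hom_of_involves`, `involves_of_mulEquiv`, `dihedralHom`,
`exists_inverting_of_surjective` (a surjection onto `D_p` gives a 2-element inverting a `p`-element outside
the kernel), `involves_dihedral_of_inverting`.
-/

set_option autoImplicit false

namespace Cfsg.Agent.Involves

open DihedralGroup

variable {G : Type*} [Group G]

/-- A surjection from a subgroup exhibits a section. -/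
theorem involves_of_hom {H : Type*} [Group H] {K : Subgroup G} (f : K →* H)
    (hf : Function.Surjective f) : Cfsg.Involves H G := by
  have hR : (f.ker.map K.subtype).subgroupOf K = f.ker :=
    Subgroup.comap_map_eq_self_of_injective K.subtype_injective _
  have hn : ((f.ker.map K.subtype).subgroupOf K).Normal := by rw [hR]; infer_instance
  exact ⟨K, f.ker.map K.subtype, hn,
    ⟨(QuotientGroup.quotientMulEquivOfEq hR).trans (QuotientGroup.quotientKerEquivOfSurjective f hf)⟩⟩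

/-- A section is the image of a surjection from a subgroup. -/
theorem exists_hom_of_involves {H : Type*} [Group H] (h : Cfsg.Involves H G) :
    ∃ (K : Subgroup G) (f : K →* H), Function.Surjective f := by
  obtain ⟨K, R, hR, ⟨e⟩⟩ := h
  exact ⟨K, e.toMonoidHom.comp (QuotientGroup.mk' _),
    e.surjective.comp (QuotientGroup.mk'_surjective _)⟩

theorem involves_iff {H : Type*} [Group H] :
    Cfsg.Involves H G ↔ ∃ (K : Subgroup G) (f : K →* H), Function.Surjective f :=
  ⟨exists_hom_of_involves, fun ⟨_, f, hf⟩ => involves_of_hom f hf⟩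

theorem involves_of_mulEquiv {H H' : Type*} [Group H] [Group H'] (e : H ≃* H')
    (h : Cfsg.Involves H G) : Cfsg.Involves H' G := by
  obtain ⟨K, f, hf⟩ := exists_hom_of_involves h
  exact involves_of_hom (e.toMonoidHom.comp f) (e.surjective.comp hf)

theorem involves_of_surjective {Q H : Type*} [Group Q] [Group H] (q : G →* Q)
    (hq : Function.Surjective q) (h : Cfsg.Involves H Q) : Cfsg.Involves H G := by
  obtain ⟨K, f, hf⟩ := exists_hom_of_involves h
  exact involves_of_hom (f.comp (q.subgroupComap K))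
    (hf.comp (q.subgroupComap_surjective_of_surjective K hq))

theorem involves_of_subgroup {N : Subgroup G} {H : Type*} [Group H] (h : Cfsg.Involves H N) :
    Cfsg.Involves H G := by
  obtain ⟨K, f, hf⟩ := exists_hom_of_involves h
  let e := K.equivMapOfInjective N.subtype N.subtype_injective
  exact involves_of_hom (f.comp e.symm.toMonoidHom) (hf.comp e.symm.surjective)

/-- The `q`-part of an element is a power prime to `q`. -/
theorem exists_primary_pow [Finite G] {q : ℕ} [hq : Fact q.Prime] (b : G) :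
    ∃ m, ¬ q ∣ m ∧ ∃ k, orderOf (b ^ m) = q ^ k := by
  obtain ⟨e, m, hm, he⟩ := Nat.exists_eq_pow_mul_and_not_dvd (orderOf_pos b).ne' q hq.out.ne_one
  refine ⟨m, hm, ?_⟩
  have : orderOf (b ^ m) ∣ q ^ e := orderOf_dvd_of_pow_eq_one (by
    rw [← pow_mul, mul_comm m, ← he, pow_orderOf_eq_one])
  obtain ⟨k, -, hk⟩ := (Nat.dvd_prime_pow hq.out).1 this
  exact ⟨k, hk⟩

/-! ### Homomorphisms out of dihedral groups -/

section dihedralHom

variable {n : ℕ} [NeZero n] {x y : G}

theorem pow_val_add (hy : y ^ n = 1) (i j : ZMod n) :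
    y ^ (i + j).val = y ^ i.val * y ^ j.val := by
  rw [ZMod.val_add, ← pow_eq_pow_mod _ hy, pow_add]

theorem mul_pow_val (hy : y ^ n = 1) (hxy : x * y * x⁻¹ = y⁻¹) (i : ZMod n) :
    y ^ i.val * x = x * y ^ (-i).val := by
  have h1 : x * y ^ (-i).val * x⁻¹ = (y ^ (-i).val)⁻¹ := by rw [← conj_pow, hxy, inv_pow]
  have h2 : (y ^ (-i).val)⁻¹ = y ^ i.val := by
    rw [inv_eq_iff_mul_eq_one, ← pow_val_add hy, neg_add_cancel, ZMod.val_zero, pow_zero]
  rw [← h2, ← h1, inv_mul_cancel_right]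

/-- The homomorphism `r i ↦ y ^ i`, `sr i ↦ x * y ^ i`. -/
def dihedralHom (hy : y ^ n = 1) (hx : x * x = 1) (hxy : x * y * x⁻¹ = y⁻¹) :
    DihedralGroup n →* G where
  toFun d := match d with
    | r i => y ^ i.val
    | sr i => x * y ^ i.val
  map_one' := by rw [one_def]; simp
  map_mul' a b := by
    rcases a with i | i <;> rcases b with j | j
    · rw [r_mul_r]; exact pow_val_add hy i j
    · rw [r_mul_sr]
      show x * y ^ (j - i).val = y ^ i.val * (x * y ^ j.val)
      rw [← mul_assoc, mul_pow_val hy hxy, mul_assoc, ← pow_val_add hy, neg_add_eq_sub]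
    · rw [sr_mul_r]
      show x * y ^ (i + j).val = x * y ^ i.val * y ^ j.val
      rw [pow_val_add hy, mul_assoc]
    · rw [sr_mul_sr]
      show y ^ (j - i).val = x * y ^ i.val * (x * y ^ j.val)
      rw [mul_assoc x, ← mul_assoc (y ^ i.val), mul_pow_val hy hxy, mul_assoc x, ← mul_assoc x x, hx,
        one_mul, ← pow_val_add hy, neg_add_eq_sub]

theorem dihedralHom_r (hy : y ^ n = 1) (hx : x * x = 1) (hxy : x * y * x⁻¹ = y⁻¹) (i : ZMod n) :
    dihedralHom hy hx hxy (r i) = y ^ i.val := rfl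

theorem dihedralHom_sr (hy : y ^ n = 1) (hx : x * x = 1) (hxy : x * y * x⁻¹ = y⁻¹) (i : ZMod n) :
    dihedralHom hy hx hxy (sr i) = x * y ^ i.val := rfl

end dihedralHom

/-! ### Dihedral sections and inverted elements -/

/-- The rotations of a dihedral group. -/
def rotations (n : ℕ) : Subgroup (DihedralGroup n) where
  carrier := {d | ∃ i, d = r i}
  mul_mem' := by rintro _ _ ⟨i, rfl⟩ ⟨j, rfl⟩; exact ⟨i + j, r_mul_r i j⟩
  one_mem' := ⟨0, one_def⟩
  inv_mem' := by rintro _ ⟨i, rfl⟩; exact ⟨-i, inv_r i⟩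

theorem mem_rotations {n : ℕ} {d : DihedralGroup n} : d ∈ rotations n ↔ ∃ i, d = r i := Iff.rfl

theorem rotations_normal (n : ℕ) : (rotations n).Normal := by
  refine ⟨fun d hd g => ?_⟩
  obtain ⟨i, rfl⟩ := hd
  cases g with
  | r j => exact ⟨j + i + -j, by simp⟩
  | sr j => exact ⟨j - (j + i), by simp⟩

/-- A surjection onto `D_p`, `p` odd, gives a 2-element inverting a `p`-element outside the kernel. -/
theorem exists_inverting_of_surjective {K : Type*} [Group K] [Finite K] {p : ℕ} [hp : Fact p.Prime]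
    (hp2 : p ≠ 2) (f : K →* DihedralGroup p) (hf : Function.Surjective f) :
    ∃ t y : K, (∃ k : ℕ, orderOf t = 2 ^ k) ∧ (∃ k : ℕ, orderOf y = p ^ k) ∧
      t * y * t⁻¹ = y⁻¹ ∧ f y ≠ 1 := by
  obtain ⟨b, hb⟩ := hf (r 1)
  obtain ⟨m, hm, km, hkm⟩ := exists_primary_pow (q := p) b
  set c := b ^ m with hc
  have hfc : f c = r (m : ZMod p) := by rw [hc, map_pow, hb, r_one_pow]
  have hm0 : (m : ZMod p) ≠ 0 := fun h => hm ((ZMod.natCast_eq_zero_iff m p).1 h)
  have hRn := rotations_normal p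
  set L := (rotations p).comap f
  have hcL : c ∈ L := ⟨_, hfc⟩
  have hcp : IsPGroup p (Subgroup.zpowers (⟨c, hcL⟩ : L)) :=
    IsPGroup.of_card (n := km) (by rw [Nat.card_zpowers, Subgroup.orderOf_mk, hkm])
  obtain ⟨P, hP⟩ := hcp.exists_le_sylow
  set P' := (P : Subgroup L).map L.subtype
  have hcP : c ∈ P' := ⟨⟨c, hcL⟩, hP (Subgroup.mem_zpowers _), rfl⟩
  have hP'p : IsPGroup p P' := P.isPGroup'.map _
  have hfrat := P.normalizer_sup_eq_top
  obtain ⟨n, hnN, hnL⟩ : ∃ n ∈ Subgroup.normalizer (P' : Set K), n ∉ L := by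
    by_contra hcon
    push Not at hcon
    obtain ⟨a, ha⟩ := hf (sr 0)
    have haL : a ∈ L := (eq_top_iff.1 ((sup_eq_right.2 hcon).symm.trans hfrat)) trivial
    obtain ⟨i, hi⟩ := haL
    rw [ha] at hi
    cases hi
  obtain ⟨i, hfn⟩ : ∃ i, f n = sr i := by
    cases hd : f n with
    | r i => exact absurd ⟨i, hd⟩ hnL
    | sr i => exact ⟨i, rfl⟩
  have : Fact (Nat.Prime 2) := ⟨Nat.prime_two⟩
  obtain ⟨m₂, hm₂, kt, hkt⟩ := exists_primary_pow (q := 2) n
  set t := n ^ m₂ with ht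
  have hft : f t = sr i := by
    obtain ⟨j, rfl⟩ : Odd m₂ := Nat.odd_iff.2 (by omega)
    rw [ht, map_pow, hfn, pow_succ, pow_mul, sq, sr_mul_self, one_pow, one_mul]
  have htN : t ∈ Subgroup.normalizer (P' : Set K) := pow_mem hnN _
  set H := Subgroup.zpowers (t ^ 2)
  have hHN : H ≤ Subgroup.normalizer (P' : Set K) := Subgroup.zpowers_le.2 (pow_mem htN 2)
  have hHf : H ≤ f.ker := Subgroup.zpowers_le.2 (by
    rw [MonoidHom.mem_ker, map_pow, hft, sq, sr_mul_self])
  have hH2 : IsPGroup 2 H := by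
    refine IsPGroup.of_injective (IsPGroup.of_card (G := Subgroup.zpowers t) (n := kt) ?_)
      (Subgroup.inclusion (show H ≤ Subgroup.zpowers t from
        Subgroup.zpowers_le.2 (pow_mem (Subgroup.mem_zpowers t) 2)))
      (Subgroup.inclusion_injective _)
    rw [Nat.card_zpowers, hkt]
  let α := {x : P' // f x = f c}
  let act : MulAction H α :=
    { smul := fun h x => ⟨⟨(h : K) * (x.1 : K) * (h : K)⁻¹,
          Subgroup.le_normalizer_iff.1 hHN h h.2 _ x.1.2⟩, by
        show f ((h : K) * (x.1 : K) * (h : K)⁻¹) = f c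
        rw [map_mul, map_mul, map_inv, (MonoidHom.mem_ker.1 (hHf h.2)), x.2]; simp⟩
      one_smul := fun x => Subtype.ext (Subtype.ext (by
        show ((1 : H) : K) * (x.1 : K) * ((1 : H) : K)⁻¹ = x.1; simp))
      mul_smul := fun a b x => Subtype.ext (Subtype.ext (by
        show ((a * b : H) : K) * (x.1 : K) * ((a * b : H) : K)⁻¹ =
          (a : K) * ((b : K) * (x.1 : K) * (b : K)⁻¹) * (a : K)⁻¹
        simp [mul_assoc])) }
  have hcard : Nat.card α = Nat.card (f.comp P'.subtype).ker := by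
    refine Nat.card_congr ⟨fun x => ⟨(⟨c, hcP⟩ : P')⁻¹ * x.1, ?_⟩,
      fun x => ⟨⟨c, hcP⟩ * x.1, ?_⟩, fun x => ?_, fun x => ?_⟩
    · simp [MonoidHom.mem_ker, x.2]
    · have := MonoidHom.mem_ker.1 x.2
      simp only [MonoidHom.comp_apply, Subgroup.coe_subtype] at this
      simp [this]
    · exact Subtype.ext (by simp)
    · exact Subtype.ext (by simp)
  obtain ⟨d, hd⟩ := IsPGroup.iff_card.1 (hP'p.to_subgroup (f.comp P'.subtype).ker)
  have hfix := hH2.nonempty_fixed_point_of_prime_not_dvd_card α (by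
    rw [hcard, hd]
    intro hdvd
    exact hp2 ((Nat.prime_dvd_prime_iff_eq Nat.prime_two hp.out).1
      (Nat.prime_two.dvd_of_dvd_pow hdvd)).symm)
  obtain ⟨x, hx⟩ := hfix
  set c' : K := (x.1 : K) with hc'
  have hcomm : t ^ 2 * c' = c' * t ^ 2 := by
    have h := congrArg (fun z : α => (z.1 : K)) (hx ⟨t ^ 2, Subgroup.mem_zpowers _⟩)
    exact mul_inv_eq_iff_eq_mul.1 h
  have hyP : c'⁻¹ * (t * c' * t⁻¹) ∈ P' :=
    P'.mul_mem (P'.inv_mem x.1.2) (Subgroup.le_normalizer_iff.1 le_rfl t htN _ x.1.2)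
  obtain ⟨ky, hky⟩ := IsPGroup.iff_orderOf.1 hP'p ⟨_, hyP⟩
  rw [Subgroup.orderOf_mk] at hky
  refine ⟨t, c'⁻¹ * (t * c' * t⁻¹), ⟨kt, hkt⟩, ⟨ky, hky⟩, ?_, ?_⟩
  · calc t * (c'⁻¹ * (t * c' * t⁻¹)) * t⁻¹ = t * c'⁻¹ * t⁻¹ * (t ^ 2 * c') * (t ^ 2)⁻¹ := by group
      _ = t * c'⁻¹ * t⁻¹ * (c' * t ^ 2) * (t ^ 2)⁻¹ := by rw [hcomm]
      _ = (c'⁻¹ * (t * c' * t⁻¹))⁻¹ := by group
  · have hfc' : f c' = r (m : ZMod p) := x.2.trans hfc
    have hval : f (c'⁻¹ * (t * c' * t⁻¹)) = r (-(m : ZMod p) + (i - (i + (m : ZMod p)))) := by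
      rw [map_mul, map_mul, map_mul, map_inv, map_inv, hfc', hft, inv_r, inv_sr, sr_mul_r, sr_mul_sr,
        r_mul_r]
    rw [hval, one_def]
    intro h
    injection h with h
    have h2 : (2 : ZMod p) * m = 0 := by linear_combination -h
    rcases mul_eq_zero.1 h2 with h3 | h3
    · exact hp2 ((Nat.prime_dvd_prime_iff_eq hp.out Nat.prime_two).1
        ((ZMod.natCast_eq_zero_iff 2 p).1 (by exact_mod_cast h3)))
    · exact hm0 h3

/-- An inverted `p`-element gives a dihedral section. -/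
theorem involves_dihedral_of_inverting {p : ℕ} [hp : Fact p.Prime] (hp2 : p ≠ 2) {t y : G}
    (ht : ∃ k : ℕ, orderOf t = 2 ^ k) (hy : ∃ k : ℕ, orderOf y = p ^ k) (hy1 : y ≠ 1)
    (h : t * y * t⁻¹ = y⁻¹) : Cfsg.Involves (DihedralGroup p) G := by
  obtain ⟨k, hk⟩ := hy
  obtain ⟨k, rfl⟩ : ∃ k', k = k' + 1 := ⟨k - 1, by
    rcases k with _ | k
    · exact absurd (orderOf_eq_one_iff.1 (by simpa using hk)) hy1
    · rfl⟩
  set z := y ^ p ^ k with hz
  have hzp : orderOf z = p := by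
    rw [hz, orderOf_pow_of_dvd (pow_ne_zero _ hp.out.ne_zero) (hk ▸ pow_dvd_pow p k.le_succ), hk,
      pow_succ, Nat.mul_div_cancel_left _ (pow_pos hp.out.pos k)]
  have htz : t * z * t⁻¹ = z⁻¹ := by rw [hz, ← conj_pow, h, inv_pow]
  obtain ⟨a, ha⟩ := ht
  let K := Subgroup.closure ({t, z} : Set G)
  let T : K := ⟨t, Subgroup.subset_closure (Or.inl rfl)⟩
  let Z : K := ⟨z, Subgroup.subset_closure (Or.inr rfl)⟩
  have hTZ : T * Z * T⁻¹ = Z⁻¹ := Subtype.ext htz
  have hcen : T ^ 2 ∈ Subgroup.center K := by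
    have hz2 : t ^ 2 * z * (t ^ 2)⁻¹ = z := by
      calc t ^ 2 * z * (t ^ 2)⁻¹ = t * (t * z * t⁻¹) * t⁻¹ := by simp [pow_two, mul_assoc]
        _ = t * z⁻¹ * t⁻¹ := by rw [htz]
        _ = (t * z * t⁻¹)⁻¹ := by group
        _ = z := by rw [htz, inv_inv]
    rw [Subgroup.mem_center_iff]
    intro g
    have : K ≤ Subgroup.centralizer {t ^ 2} := (Subgroup.closure_le _).2 (by
      rintro x (rfl | rfl) <;> rw [SetLike.mem_coe, Subgroup.mem_centralizer_singleton_iff]
      · group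
      · exact (mul_inv_eq_iff_eq_mul.1 hz2).symm)
    have h1 := Subgroup.mem_centralizer_singleton_iff.1 (this g.2)
    exact Subtype.ext h1
  let R := Subgroup.zpowers (T ^ 2)
  have hRn : R.Normal :=
    ⟨fun x hx g => by
      rw [Subgroup.mem_center_iff.1 ((Subgroup.zpowers_le.2 hcen : R ≤ _) hx) g, mul_inv_cancel_right]
      exact hx⟩
  let q := QuotientGroup.mk' R
  have hqT : q T * q T = 1 := by
    rw [← map_mul, ← sq]; exact (QuotientGroup.eq_one_iff _).2 (Subgroup.mem_zpowers _)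
  have hqZ : q Z ^ p = 1 := by
    rw [← map_pow, show Z ^ p = 1 from Subtype.ext (by
      show z ^ p = 1; rw [← hzp, pow_orderOf_eq_one]), map_one]
  have hqTZ : q T * q Z * (q T)⁻¹ = (q Z)⁻¹ := by rw [← map_inv, ← map_mul, ← map_mul, hTZ, map_inv]
  have hqZ1 : orderOf (q Z) = p := orderOf_eq_prime hqZ fun h1 => by
    obtain ⟨j, hj⟩ := (QuotientGroup.eq_one_iff _).1 h1
    have hd : orderOf Z ∣ orderOf T := by
      rw [show Z = (T ^ 2) ^ j from hj.symm]
      exact orderOf_dvd_of_mem_zpowers (zpow_mem (pow_mem (Subgroup.mem_zpowers T) 2) j)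
    rw [show orderOf T = 2 ^ a from (Subgroup.orderOf_mk _ _).trans ha,
      show orderOf Z = p from (Subgroup.orderOf_mk _ _).trans hzp] at hd
    exact hp2 ((Nat.prime_dvd_prime_iff_eq hp.out Nat.prime_two).1 (hp.out.dvd_of_dvd_pow hd))
  let φ := dihedralHom hqZ hqT hqTZ
  have hinj : Function.Injective φ := by
    refine (injective_iff_map_eq_one φ).2 fun d hd => ?_
    rcases d with i | i
    · rw [dihedralHom_r, ← orderOf_dvd_iff_pow_eq_one, hqZ1] at hd
      rw [one_def, (ZMod.val_eq_zero i).1 (Nat.eq_zero_of_dvd_of_lt hd i.val_lt)]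
    · rw [dihedralHom_sr] at hd
      exfalso
      have hT' : q T = (q Z ^ i.val)⁻¹ := eq_inv_of_mul_eq_one_left hd
      have hZ' : q Z = (q Z)⁻¹ := by
        conv_rhs => rw [← hqTZ, hT']
        group
      have hZ2 : orderOf (q Z) ∣ 2 := orderOf_dvd_of_pow_eq_one (by
        rw [sq]; nth_rw 2 [hZ']; exact mul_inv_cancel _)
      rw [hqZ1] at hZ2
      exact hp2 ((Nat.prime_dvd_prime_iff_eq hp.out Nat.prime_two).1 hZ2)
  have hsurj : Function.Surjective φ := by
    have hTr : q T ∈ φ.range := ⟨sr 0, by rw [dihedralHom_sr, ZMod.val_zero, pow_zero, mul_one]⟩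
    have hZr : q Z ∈ φ.range := ⟨r 1, by rw [dihedralHom_r, ZMod.val_one, pow_one]⟩
    intro w
    obtain ⟨g, rfl⟩ := QuotientGroup.mk'_surjective R w
    show q g ∈ φ.range
    obtain ⟨g, hg⟩ := g
    induction hg using Subgroup.closure_induction with
    | mem x hx => rcases hx with rfl | rfl
                  · exact hTr
                  · exact hZr
    | one => exact φ.range.one_mem
    | mul x y hx hy ihx ihy => exact φ.range.mul_mem ihx ihy
    | inv x hx ihx => exact φ.range.inv_mem ihx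
  exact involves_of_mulEquiv (MulEquiv.ofBijective φ ⟨hinj, hsurj⟩).symm
    (involves_of_hom q (QuotientGroup.mk'_surjective R))

end Cfsg.Agent.Involves
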